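import Groth.Agent.H8.ModQ.EtDetect
import Groth.Agent.H8.QCohVanish.Push
import Groth.Agent.Lib.EtMod.Present
import Groth.Agent.Lib.EtMod.Colimit
import Groth.Agent.Lib.WayOut.Holim
import Groth.Agent.Lib.RlimTrunc.RightAdditive
import Groth.Agent.Lib.DerivedOX.Exists

/-!
# Sections over affine objects detect cohomology of complexes of modules on the small etale site
-/

universe u

set_option backward.isDefEq.respectTransparency false
set_option backward.isDefEq.respectTransparency.types false
set_option linter.style.haveILetI false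

open CategoryTheory CategoryTheory.Limits AlgebraicGeometry Opposite AlgSp Abelian DerivedCategory

attribute [local instance] HasDerivedCategory.standard

namespace Groth.Agent.H8.ModQ

open Groth.Agent.Lib.WayOut Groth.Agent.Lib.WayOut.Bounded Groth.Agent.Lib.SpecSeq
open Groth.Agent.Lib.DerivedOX.RightDerived Groth.Agent.Lib.SpecSeq.RightHom Groth.Agent.Lib.SpecSeq.AcyclicComplex

variable {S : Scheme.{u}} {X : Sp S}

instance isGrothendieckAbelian_modEt : IsGrothendieckAbelian.{u + 1} (ModEt X) :=
  isGrothendieckAbelian (OEtRing X)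

/-- Sections over an object, as abelian groups. -/
noncomputable abbrev sect (U : EtOver X) : ModEt X ⥤ AddCommGrpCat.{u + 1} :=
  SheafOfModules.evaluation (OEtRing X) (op U) ⋙ forget₂ _ AddCommGrpCat.{u + 1}

instance sect_additive (U : EtOver X) : (sect U).Additive where
  map_add := by
    intros
    rfl

instance sect_preservesLimits {D : Type} [SmallCategory D] (U : EtOver X) :
    PreservesLimitsOfShape D (sect U) :=
  @comp_preservesLimitsOfShape _ _ _ _ _ _ _ _ (SheafOfModules.evaluation (OEtRing X) (op U))
    (forget₂ _ AddCommGrpCat.{u + 1})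
    (SheafOfModules.evaluationPreservesLimitsOfShape.{u + 1} D (OEtRing X) (op U)) inferInstance

instance sect_preservesFiniteLimits (U : EtOver X) : PreservesFiniteLimits (sect U) where
  preservesFiniteLimits _ _ _ := inferInstance

/-- Quasi-coherence, as a property. -/
abbrev qc (X : Sp S) : ObjectProperty (ModEt X) := SheafOfModules.isQuasicoherent (OEtRing X)

instance qc_containsZero : (qc X).ContainsZero := by
  refine ⟨⟨∐ fun e : PEmpty.{u + 2} => (e.elim : ModEt X), ?_, ?_⟩⟩
  · exact (IsZero.iff_id_eq_zero _).2 (Sigma.hom_ext _ _ fun e => e.elim)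
  · exact Lib.EtMod.isQuasicoherent_of_isCart (Lib.EtMod.isCart_sigma _ fun e => e.elim)

/-- Derived sections over affine objects vanish on quasi-coherent modules. -/
theorem isZero_rightDerived_sect {U : EtOver X} (hU : IsAffine U.obj.left.left) (M : ModEt X)
    (hM : Lib.EtMod.IsCart M) (n : ℕ) : IsZero (((sect U).rightDerived (n + 1)).obj M) := by
  haveI : HasExt.{u + 2} (ModEt X) := HasExt.standard _
  let R := InjectiveResolution.of M
  refine IsZero.of_iso ?_ (R.isoRightDerivedObj (sect U) (n + 1))
  refine HomologicalComplex.ExactAt.isZero_homology ?_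
  rw [HomologicalComplex.exactAt_iff' _ n (n + 1) (n + 2) (by simp) (by simp),
    ShortComplex.ab_exact_iff]
  exact fun x hx => exists_d_eq (QCohVanish.covers X) M (QCohVanish.good_of_isCart M hM) R hU n x hx

theorem van_sect {U : EtOver X} (hU : IsAffine U.obj.left.left) : Van (sect U) (qc X) 1 :=
  fun M hM n hn => by
    haveI : M.IsQuasicoherent := hM
    obtain ⟨k, rfl⟩ : ∃ k : ℕ, n = ((k + 1 : ℕ) : ℤ) := ⟨(n - 1).toNat, by omega⟩
    exact (isZero_rightDerived_sect hU M (Lib.EtMod.isCart_of_isQuasicoherent M) k).of_iso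
      (Groth.Agent.Lib.RlimTrunc.RightAdditive.rightDerivedIso (sect U) (k + 1) M)

/-- Affine sections detect exactness. -/
theorem exact_of_sect (T : ShortComplex (ModEt X))
    (h : ∀ U : {U : EtOver X // IsAffine U.obj.left.left}, (T.map (sect U.1)).Exact) : T.Exact :=
  (ShortComplex.exact_map_iff_of_faithful T (SheafOfModules.toSheaf (OEtRing X))).1
    (QCohVanish.exact_of_affine_sections (T.map (SheafOfModules.toSheaf (OEtRing X)))
      fun E hE x hx => (ShortComplex.ab_exact_iff _).1 (h ⟨E, hE⟩) x hx)

/-- Affine sections detect cohomology of complexes. -/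
noncomputable def detects (X : Sp S) : Holim.Detects.{u + 2, u + 1, u + 2, u + 1, u + 1} (qc X) where
  ι := {U : EtOver X // IsAffine U.obj.left.left}
  Φ U := sect U.1
  additive _ := inferInstance
  preservesFiniteLimits _ := inferInstance
  preservesProducts _ := inferInstance
  van U := van_sect U.2
  detect := exact_of_sect

/-- Finite cohomological dimension on complexes with quasi-coherent cohomology. -/
theorem isZero_RH (F : ModEt X ⥤ AddCommGrpCat.{u + 1}) [F.Additive] [PreservesFiniteLimits F]
    [PreservesLimitsOfShape (Discrete ℕ) F] (N : ℕ)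
    (hF : ∀ G : ModEt X, G.IsQuasicoherent → ∀ p : ℕ, N ≤ p → IsZero ((F.rightDerived p).obj G))
    (E : DModEt X) (hE : DCoh.IsQCohDMod (OEtRing X) E) (b : ℤ) [E.IsLE b] (n : ℤ) (hn : b + N ≤ n) :
    IsZero ((RightHom.RH F n).obj E) :=
  Holim.isZero_RH (detects X) F (N := (N : ℤ)) (fun M hM m hm => by
    obtain ⟨p, rfl⟩ := Int.eq_ofNat_of_zero_le (show (0 : ℤ) ≤ m by omega)
    exact (hF M hM p (by exact_mod_cast hm)).of_iso
      (Groth.Agent.Lib.RlimTrunc.RightAdditive.rightDerivedIso F p M)) E hE b n hn

/-- Derived functors of finite cohomological dimension only see a truncation. -/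
theorem isIso_RH_truncGEπ (F : ModEt X ⥤ AddCommGrpCat.{u + 1}) [F.Additive] [PreservesFiniteLimits F]
    [PreservesLimitsOfShape (Discrete ℕ) F] (N : ℕ)
    (hF : ∀ G : ModEt X, G.IsQuasicoherent → ∀ p : ℕ, N ≤ p → IsZero ((F.rightDerived p).obj G))
    (E : DModEt X) (hE : DCoh.IsQCohDMod (OEtRing X) E) (c n : ℤ) (hn : c - 1 + N ≤ n) :
    IsIso ((RightHom.RH F n).map
      (((TStructure.t : Triangulated.TStructure (DModEt X)).truncGEπ c).app E)) := by
  haveI : ((TStructure.t.truncLT c).obj E).IsLE (c - 1) :=
    (inferInstance : TStructure.t.IsLE ((TStructure.t.truncLT c).obj E) (c - 1))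
  have hP := hasP_truncLT (P := qc X) hE c
  have h1 := isZero_RH F N hF _ hP (c - 1) n hn
  have h2 := isZero_RH F N hF _ hP (c - 1) (n + 1) (by omega)
  have hT := TStructure.t.triangleLTGE_distinguished c E
  haveI : Mono ((RightHom.RH F n).map (((TStructure.t : Triangulated.TStructure (DModEt X)).truncGEπ c).app E)) :=
    ((RH0 F).homologySequence_exact₂ _ hT n).mono_g (h1.eq_of_src _ _)
  haveI : Epi ((RightHom.RH F n).map (((TStructure.t : Triangulated.TStructure (DModEt X)).truncGEπ c).app E)) :=
    ((RH0 F).homologySequence_exact₃ _ hT n (n + 1) rfl).epi_f (h2.eq_of_tgt _ _)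
  exact isIso_of_mono_of_epi _

end Groth.Agent.H8.ModQ
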