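import Groth.Agent.H8.ModQ.ExtGood
import Groth.Agent.H8.QCohVanish.Good
import Groth.Agent.Lib.RlimTrunc.Trunc
import Groth.Agent.Lib.DerCat.ProdPlus
import Groth.Prelude.Def_AlgSpD

/-!
# Free modules on affine objects of the small etale site see quasi-coherent cohomology
-/

universe u

set_option backward.isDefEq.respectTransparency false
set_option backward.isDefEq.respectTransparency.types false
set_option linter.style.haveILetI false

open CategoryTheory CategoryTheory.Limits AlgebraicGeometry Opposite AlgSp Abelian DerivedCategory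

attribute [local instance] HasDerivedCategory.standard

namespace Groth.Agent.H8.ModQ

open Groth.Agent.Lib.RlimTrunc.Main Groth.Agent.Lib.RlimTrunc.Devissage

variable {S : Scheme.{u}} {X : Sp S}

/-- The free modules on the objects of the small etale site. -/
noncomputable abbrev freeEt (X : Sp S) : EtOver X ⥤ ModEt X := freeY (OEtRing X)

theorem isDetectingEt : IsDetecting (etTop X) (freeEt X) := isDetecting (OEtRing X)

/-- Free modules on affine objects have no higher Ext into modules cartesian on affine objects. -/
theorem extVanish_freeEt {U : EtOver X} (hU : IsAffine U.obj.left.left) (M : ModEt X)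
    (hM : Lib.EtMod.IsCart M) (k : ℕ) (hk : 0 < k) : ExtVanish ((freeEt X).obj U) M k := by
  obtain ⟨j, rfl⟩ : ∃ j, k = j + 1 := ⟨k - 1, by omega⟩
  haveI : HasExt.{u + 2} (ModEt X) := HasExt.standard _
  exact Groth.Agent.Lib.RlimTrunc.extVanish_of_subsingleton
    (subsingleton_ext (QCohVanish.covers X) j M (QCohVanish.good_of_isCart M hM) hU)

/-- The affine objects give cofinal good coverings. -/
theorem cofinalGood_affine {β : Type*} {Q : EtOver X → β → Prop} (b : β)
    (h : ∀ V : EtOver X, IsAffine V.obj.left.left → Q V b) :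
    CofinalGood.{u, u + 1, u + 1} (etTop X) Q := by
  refine CofinalGood.of_forall {V | IsAffine V.obj.left.left} b (fun U => ?_) h fun U T => ?_
  · choose W j hW hj using fun v : U.obj.left.left => Lib.EtMod.exists_affine_open_obj v
    exact ⟨ULift.{u + 1} U.obj.left.left, fun v => W v.down, fun v => j v.down,
      ofArrows_mem_etTop _ _ fun v => ⟨⟨v⟩, hj v⟩, fun v => hW v.down⟩
  · refine ⟨Σ Y, {f : Y ⟶ U // T.arrows f}, fun x => x.1, fun x => x.2.1, Sieve.ext fun Z g => ⟨?_, fun hg => ?_⟩⟩
    · rintro ⟨_, e, _, ⟨x⟩, rfl⟩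
      exact T.downward_closed x.2.2 e
    · exact ⟨Z, 𝟙 _, g, Presieve.ofArrows.mk (⟨Z, g, hg⟩ : Σ Y, {f : Y ⟶ U // T.arrows f}),
        Category.id_comp g⟩

/-- An object with quasi-coherent cohomology is the derived limit of its truncations. -/
theorem isRlimVia_truncTower (E : DModEt X) [HasProduct (CohCx.truncTower E)]
    (hE : DCoh.IsQCohDMod (OEtRing X) E) :
    CohCx.IsRlimVia (CohCx.truncTower E) (CohCx.truncTowerMap E) E (CohCx.toTruncTower E) :=
  Groth.Agent.Lib.RlimTrunc.Trunc.isRlimVia_truncTower E isDetectingEt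
    (cofinalGood_affine (fun m => (-m).toNat) fun V hV m n hn =>
      extVanish_freeEt hV _ (haveI := hE (-((n : ℤ) + 1)); Lib.EtMod.isCart_of_isQuasicoherent _) _ (by
        have hn' : (-m).toNat ≤ n := hn
        omega))

end Groth.Agent.H8.ModQ
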