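import Groth.Agent.Lib.ProEt.Cochain
import Mathlib.Algebra.Category.ModuleCat.Presheaf.Free
import Mathlib.Algebra.Category.ModuleCat.Presheaf.Abelian
import Mathlib.Algebra.Category.ModuleCat.Presheaf.Colimits
import Mathlib.Algebra.Category.ModuleCat.Presheaf.Limits
import Mathlib.Algebra.Homology.ShortComplex.ModuleCat

/-!
# Cech cocycles of injective presheaves of modules are coboundaries
-/

universe u

set_option backward.isDefEq.respectTransparency false
set_option backward.isDefEq.respectTransparency.types false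
set_option linter.style.haveILetI false

open CategoryTheory CategoryTheory.Limits Opposite

namespace Groth.Agent.H8.ModQ

open Lib.ProEt.Cochain

variable {C : Type (u + 1)} [Category.{u} C] {R : Cᵒᵖ ⥤ RingCat.{u + 1}} {P U : C} {c : P ⟶ U}
  {n : ℕ} {F : PresheafOfModules.{u + 1} R}

variable (R c) in
/-- The free module on tuples. -/
noncomputable abbrev freeT (n : ℕ) : PresheafOfModules.{u + 1} R :=
  PresheafOfModules.freeObj (tupPsh c n)

variable (R) in
/-- A generator. -/
noncomputable abbrev genM {m : ℕ} {W : Cᵒᵖ} (t : Tup c m W.unop) : (freeT R c m).obj W :=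
  ModuleCat.freeMk (R := R.obj W) (⟨t⟩ : ULift.{u + 1} (Tup c m W.unop))

theorem freeT_ext {m : ℕ} {f g : freeT R c m ⟶ F}
    (h : ∀ (W : Cᵒᵖ) (t : Tup c m W.unop), f.app W (genM R t) = g.app W (genM R t)) : f = g :=
  PresheafOfModules.hom_ext fun W => ModuleCat.free_hom_ext fun t => h W t.down

/-- A cochain as a map out of the free module. -/
noncomputable def toHomM (x : Coch c F.presheaf n) : freeT R c n ⟶ F :=
  PresheafOfModules.freeObjDesc
    { app := fun W => ↾fun t => x.app W.unop t.down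
      naturality := fun W W' g => by
        ext t
        exact x.naturality g.unop t.down }

theorem toHomM_gen (x : Coch c F.presheaf n) {W : Cᵒᵖ} (t : Tup c n W.unop) :
    (toHomM x).app W (genM R t) = x.app W.unop t :=
  ModuleCat.freeDesc_apply (R := R.obj W) _ _

theorem map_genM {m : ℕ} {W W' : Cᵒᵖ} (g : W ⟶ W') (t : Tup c m W.unop) :
    (freeT R c m).map g (genM R t) = genM R (Lib.ProEt.Cochain.res g.unop t) :=
  ModuleCat.freeDesc_apply (R := R.obj W) _ _

/-- A map out of the free module as a cochain. -/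
noncomputable def ofHomM (y : freeT R c n ⟶ F) : Coch c F.presheaf n where
  app W t := y.app (op W) (genM R (W := op W) t)
  naturality {W W'} g t :=
    (congrArg (y.app (op W')) (map_genM (W := op W) g.op t)).symm.trans
      (PresheafOfModules.naturality_apply y g.op (genM R (W := op W) t))

variable (R c) in
/-- The boundary. -/
noncomputable def bdM (n : ℕ) : freeT R c (n + 1) ⟶ freeT R c n :=
  toHomM (δ (ofHomM (𝟙 (freeT R c n))))

theorem bdM_gen {m : ℕ} {W : Cᵒᵖ} (t : Tup c (m + 1) W.unop) :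
    (bdM R c m).app W (genM R t) =
      ∑ i : Fin (m + 2), (-1 : ℤ) ^ (i : ℕ) • genM R (face i t) :=
  (toHomM_gen _ t).trans (δ_app _ _ _)

theorem δ_ofHomM (y : freeT R c n ⟶ F) (W : C) (t : Tup c (n + 1) W) :
    (δ (ofHomM y)).app W t = (bdM R c n ≫ y).app (op W) (genM R (W := op W) t) := by
  rw [δ_app]
  change _ = y.app (op W) ((bdM R c n).app (op W) (genM R (W := op W) t))
  rw [bdM_gen]
  refine Eq.trans ?_ (map_sum (y.app (op W)).hom _ _).symm
  exact Finset.sum_congr rfl fun i _ => (map_zsmul (y.app (op W)).hom _ _).symm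

theorem bdM_toHomM (x : Coch c F.presheaf n) (W : C) (t : Tup c (n + 1) W) :
    (bdM R c n ≫ toHomM x).app (op W) (genM R (W := op W) t) = (δ x).app W t := by
  rw [← δ_ofHomM, δ_app, δ_app]
  refine Finset.sum_congr rfl fun i _ => congrArg _ ?_
  exact toHomM_gen x (W := op W) (face i t)

theorem bdM_bdM (n : ℕ) : bdM R c (n + 1) ≫ bdM R c n = 0 := by
  refine freeT_ext fun W t => ?_
  exact (bdM_toHomM (δ (ofHomM (𝟙 (freeT R c n)))) W.unop t).trans (δ_δ _ W.unop t)

/-- The free complex of tuples is exact in positive degrees. -/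
theorem exact_bdM (n : ℕ) :
    (ShortComplex.mk (bdM R c (n + 1)) (bdM R c n) (bdM_bdM n)).Exact := by
  classical
  rw [ShortComplex.exact_iff_isZero_homology, IsZero.iff_id_eq_zero]
  refine PresheafOfModules.hom_ext fun W => ?_
  suffices h : IsZero ((PresheafOfModules.evaluation R W).obj
      (ShortComplex.mk (bdM R c (n + 1)) (bdM R c n) (bdM_bdM n)).homology) from h.eq_of_src _ _
  refine IsZero.of_iso ?_ ((ShortComplex.mk (bdM R c (n + 1)) (bdM R c n) (bdM_bdM n)).mapHomologyIso
    (PresheafOfModules.evaluation R W)).symm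
  refine (ShortComplex.exact_iff_isZero_homology _).mp ?_
  rw [ShortComplex.moduleCat_exact_iff]
  intro z hz
  let e : ∀ {m : ℕ}, Tup c m W.unop → (W.unop ⟶ P) := fun {m} t =>
    (⟨t.1 0, rfl⟩ : ∃ e : W.unop ⟶ P, e ≫ c = t.1 0 ≫ c).choose
  have he : ∀ {m : ℕ} (t : Tup c m W.unop), e t ≫ c = t.1 0 ≫ c := fun {m} t =>
    (⟨t.1 0, rfl⟩ : ∃ e : W.unop ⟶ P, e ≫ c = t.1 0 ≫ c).choose_spec
  have hee : ∀ {m m' : ℕ} (t : Tup c m W.unop) (t' : Tup c m' W.unop),
      t.1 0 ≫ c = t'.1 0 ≫ c → e t = e t' := by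
    intro m m' t t' h
    have key : ∀ (a b : W.unop ⟶ U) (ha : ∃ e : W.unop ⟶ P, e ≫ c = a)
        (hb : ∃ e : W.unop ⟶ P, e ≫ c = b), a = b → ha.choose = hb.choose := by
      rintro a b ha hb rfl
      rfl
    exact key _ _ _ _ h
  let cn : ∀ {m : ℕ}, Tup c m W.unop → Tup c (m + 1) W.unop := fun {m} t =>
    ⟨Fin.cons (e t) t.1, fun a b => by
      have h : ∀ a, (Fin.cons (e t) t.1 : Fin (m + 2) → (W.unop ⟶ P)) a ≫ c = t.1 0 ≫ c := by
        intro a
        induction a using Fin.cases with
        | zero => rw [Fin.cons_zero]; exact he t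
        | succ a => rw [Fin.cons_succ]; exact t.2 _ _
      rw [h a, h b]⟩
  let H : ∀ (m : ℕ), (freeT R c m).obj W ⟶ (freeT R c (m + 1)).obj W := fun m =>
    (ModuleCat.free (R.obj W)).map (↾fun t => ⟨cn t.down⟩)
  have hH : ∀ (m : ℕ) (t : Tup c m W.unop), H m (genM R t) = genM R (cn t) := fun m t =>
    ModuleCat.free_map_apply (R := R.obj W) _ _
  have key : H (n + 1) ≫ (bdM R c (n + 1)).app W + (bdM R c n).app W ≫ H n = 𝟙 _ := by
    refine ModuleCat.free_hom_ext fun t => ?_
    obtain ⟨t⟩ := t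
    change (bdM R c (n + 1)).app W (H (n + 1) (genM R t)) + H n ((bdM R c n).app W (genM R t)) =
      genM R t
    rw [hH, bdM_gen, bdM_gen]
    rw [show H n (∑ i : Fin (n + 2), (-1 : ℤ) ^ (i : ℕ) • genM R (face i t)) =
        ∑ i : Fin (n + 2), (-1 : ℤ) ^ (i : ℕ) • genM R (cn (face i t)) from
      (map_sum (H n).hom _ _).trans (Finset.sum_congr rfl fun i _ =>
        (map_zsmul (H n).hom _ _).trans (congrArg _ (hH _ _)))]
    rw [Fin.sum_univ_succ]
    have h0 : face 0 (cn t) = t := Subtype.ext (funext fun a => by simp [face, cn])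
    have hs : ∀ i : Fin (n + 2), face i.succ (cn t) = cn (face i t) := by
      intro i
      refine Subtype.ext (funext fun a => ?_)
      have hee' : e (face i t) = e t := hee _ _ (t.2 _ _)
      induction a using Fin.cases with
      | zero => simpa [face, cn] using hee'.symm
      | succ a => simp [face, cn]
    simp only [Fin.val_succ, pow_succ, mul_neg, mul_one, neg_smul, h0, hs, Fin.val_zero,
      pow_zero, one_smul, Finset.sum_neg_distrib]
    abel
  refine ⟨H (n + 1) z, ?_⟩
  have h1 : (bdM R c (n + 1)).app W (H (n + 1) z) + H n ((bdM R c n).app W z) = z :=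
    congrArg (fun φ : (freeT R c (n + 1)).obj W ⟶ (freeT R c (n + 1)).obj W => φ z) key
  rw [show (bdM R c n).app W z = 0 from hz, map_zero, add_zero] at h1
  exact h1

/-- Cocycles of an injective presheaf of modules are coboundaries. -/
theorem exists_eq_δ_of_injective_mod [Injective F] (x : Coch c F.presheaf (n + 1))
    (hx : ∀ W t, (δ x).app W t = 0) : ∃ y : Coch c F.presheaf n, δ y = x := by
  have h : bdM R c (n + 1) ≫ toHomM x = 0 :=
    freeT_ext fun W t => (bdM_toHomM x W.unop t).trans (hx _ t)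
  refine ⟨ofHomM ((exact_bdM n).descToInjective (toHomM x) h), ?_⟩
  ext W t
  rw [δ_ofHomM]
  have h1 := (exact_bdM n).comp_descToInjective (toHomM x) h
  refine Eq.trans (congrArg (fun φ : freeT R c (n + 1) ⟶ F =>
    φ.app (op W) (genM R (W := op W) t)) h1) ?_
  exact toHomM_gen x (W := op W) t

end Groth.Agent.H8.ModQ
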