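import Groth.Agent.H8.ModQ.FreeMod
import Groth.Agent.H8.ModQ.InjGood
import Groth.Agent.H8.QCohVanish.Crit
import Groth.Agent.Lib.RlimTrunc.AbSheaf
import Mathlib.Algebra.Homology.DerivedCategory.Ext.EnoughInjectives
import Mathlib.CategoryTheory.Abelian.Injective.Ext

/-!
# Ext out of free modules on good objects vanishes for good modules
-/

universe w u

set_option backward.isDefEq.respectTransparency false
set_option backward.isDefEq.respectTransparency.types false
set_option linter.style.haveILetI false

open CategoryTheory CategoryTheory.Limits Opposite Abelian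

namespace Groth.Agent.H8.ModQ

open QCohVanish

variable {C : Type (u + 1)} [Category.{u} C] {J : GrothendieckTopology C}
  {R : Sheaf J RingCat.{u + 1}} [HasSheafify J AddCommGrpCat.{u + 1}]
  [J.WEqualsLocallyBijective AddCommGrpCat.{u + 1}] (𝒞 : Covers J)

/-- Injective modules are good. -/
theorem good_of_injective_module (I : SheafOfModules.{u + 1} R) [Injective I] :
    Good 𝒞 ((SheafOfModules.toSheaf R).obj I) := by
  haveI : PreservesFiniteLimits (PresheafOfModules.sheafification.{u + 1} (𝟙 R.obj)) := inferInstance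
  haveI : Injective ((SheafOfModules.forget R ⋙ PresheafOfModules.restrictScalars (𝟙 R.obj)).obj I) :=
    Injective.injective_of_adjoint (PresheafOfModules.sheafificationAdjunction (𝟙 R.obj)) I
  intro P U c _ n x hx
  exact exists_eq_δ_of_injective_mod
    (F := (SheafOfModules.forget R ⋙ PresheafOfModules.restrictScalars (𝟙 R.obj)).obj I) x hx

/-- Ext groups out of free modules on good objects into good modules vanish. -/
theorem subsingleton_ext [HasExt.{w} (SheafOfModules.{u + 1} R)] (k : ℕ) :
    ∀ (M : SheafOfModules.{u + 1} R), Good 𝒞 ((SheafOfModules.toSheaf R).obj M) →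
      ∀ ⦃U : C⦄, 𝒞.B U → Subsingleton (Ext.{w} ((freeY R).obj U) M (k + 1)) := by
  haveI := enoughInjectives R
  induction k with
  | zero =>
    intro M hM U hU
    let S : ShortComplex (SheafOfModules.{u + 1} R) :=
      ShortComplex.mk (Injective.ι M) (cokernel.π _) (cokernel.condition _)
    have hS : S.ShortExact := { exact := ShortComplex.exact_of_g_is_cokernel _ (cokernelIsCokernel _) }
    refine subsingleton_of_forall_eq 0 fun x => ?_
    obtain ⟨y, rfl⟩ := Ext.covariant_sequence_exact₁ _ hS x
      (haveI : Injective S.X₂ := inferInstanceAs (Injective (Injective.under M));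
        Ext.eq_zero_of_injective _) rfl
    obtain ⟨f, rfl⟩ := Ext.addEquiv₀.symm.surjective y
    obtain ⟨m, hm⟩ := surjective_of_good (hS.map_of_exact (SheafOfModules.toSheaf R)) hM hU
      (secEquiv R U _ f)
    have hf : (secEquiv R U S.X₂).symm m ≫ S.g = f := by
      refine (secEquiv R U S.X₃).injective ?_
      rw [secEquiv_right, Equiv.apply_symm_apply]
      exact hm
    rw [← hf]
    change (Ext.mk₀ ((secEquiv R U S.X₂).symm m ≫ S.g)).comp hS.extClass _ = 0
    rw [← Ext.mk₀_comp_mk₀]
    refine (Ext.comp_assoc (a₁₂ := 0) (a₂₃ := 1) (Ext.mk₀ _) (Ext.mk₀ S.g) hS.extClass (add_zero 0)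
      (zero_add 1) (by omega)).trans ?_
    exact (congrArg (fun v => (Ext.mk₀ ((secEquiv R U S.X₂).symm m)).comp v _) hS.comp_extClass).trans
      (Ext.comp_zero _ _ _ _ _)
  | succ k ih =>
    intro M hM U hU
    let S : ShortComplex (SheafOfModules.{u + 1} R) :=
      ShortComplex.mk (Injective.ι M) (cokernel.π _) (cokernel.condition _)
    have hS : S.ShortExact := { exact := ShortComplex.exact_of_g_is_cokernel _ (cokernelIsCokernel _) }
    haveI : Injective S.X₂ := inferInstanceAs (Injective (Injective.under M))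
    have hQ : Good 𝒞 ((SheafOfModules.toSheaf R).obj S.X₃) :=
      good_X₃ (hS.map_of_exact (SheafOfModules.toSheaf R)) hM (good_of_injective_module 𝒞 S.X₂)
    refine subsingleton_of_forall_eq 0 fun x => ?_
    obtain ⟨y, rfl⟩ := Ext.covariant_sequence_exact₁ _ hS x (Ext.eq_zero_of_injective _) rfl
    rw [(ih S.X₃ hQ hU).elim y 0, Ext.zero_comp]

/-- Sections over a good object of an injective resolution of a good module are exact. -/
theorem exists_d_eq (M : SheafOfModules.{u + 1} R) (hM : Good 𝒞 ((SheafOfModules.toSheaf R).obj M))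
    (P : InjectiveResolution M) ⦃U : C⦄ (hU : 𝒞.B U) (n : ℕ)
    (x : (P.cocomplex.X (n + 1)).val.obj (op U))
    (hx : (P.cocomplex.d (n + 1) (n + 2)).val.app (op U) x = 0) :
    ∃ y, (P.cocomplex.d n (n + 1)).val.app (op U) y = x := by
  haveI : HasExt.{u + 2} (SheafOfModules.{u + 1} R) := HasExt.standard _
  let f : (freeY R).obj U ⟶ P.cocomplex.X (n + 1) := (secEquiv R U _).symm x
  have hf : f ≫ P.cocomplex.d (n + 1) (n + 2) = 0 := by
    refine (secEquiv R U _).injective ?_
    rw [secEquiv_right, Equiv.apply_symm_apply, secEquiv_zero]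
    exact hx
  haveI := subsingleton_ext 𝒞 n M hM hU
  obtain ⟨g, hg⟩ := (P.extMk_eq_zero_iff f (n + 2) rfl hf n rfl).1 (Subsingleton.elim _ _)
  refine ⟨secEquiv R U _ g, ?_⟩
  rw [← secEquiv_right, hg, Equiv.apply_symm_apply]

end Groth.Agent.H8.ModQ
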