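import Mathlib.Algebra.Category.ModuleCat.Sheaf.Abelian
import Mathlib.Algebra.Category.ModuleCat.Sheaf.Colimits
import Mathlib.Algebra.Category.ModuleCat.Presheaf.Colimits
import Mathlib.Algebra.Category.ModuleCat.Presheaf.Free
import Mathlib.CategoryTheory.Abelian.GrothendieckAxioms.Sheaf
import Mathlib.CategoryTheory.Abelian.GrothendieckCategory.EnoughInjectives
import Mathlib.CategoryTheory.Generator.Abelian
import Mathlib.Algebra.Category.Grp.AB
import Mathlib.CategoryTheory.Sites.EpiMono
import Groth.Agent.Lib.Modules.ToSheaf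
import Groth.Agent.Lib.RlimTrunc.Pres

/-!
# Free modules on the objects of a site with objects one universe up
-/

universe u

set_option backward.isDefEq.respectTransparency false
set_option backward.isDefEq.respectTransparency.types false
set_option linter.style.haveILetI false

open CategoryTheory CategoryTheory.Limits Opposite

namespace Groth.Agent.H8.ModQ

open Groth.Agent.Lib.RlimTrunc.Main

variable {C : Type (u + 1)} [Category.{u} C] {J : GrothendieckTopology C}
  (R : Sheaf J RingCat.{u + 1}) [HasSheafify J AddCommGrpCat.{u + 1}]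
  [J.WEqualsLocallyBijective AddCommGrpCat.{u + 1}]

/-- The presheaf of sets of an object, one universe up. -/
noncomputable abbrev yo : C ⥤ Cᵒᵖ ⥤ Type (u + 1) :=
  yoneda ⋙ (Functor.whiskeringRight Cᵒᵖ (Type u) (Type (u + 1))).obj uliftFunctor.{u + 1, u}

/-- The free module on an object. -/
noncomputable def freeY : C ⥤ SheafOfModules.{u + 1} R :=
  yo ⋙ PresheafOfModules.free R.obj ⋙ PresheafOfModules.sheafification (𝟙 R.obj)

/-- Maps of presheaves of sets out of an object. -/
def yoEquiv (U : C) (F : Cᵒᵖ ⥤ Type (u + 1)) : (yo.obj U ⟶ F) ≃ F.obj (op U) where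
  toFun φ := φ.app (op U) ⟨𝟙 U⟩
  invFun x :=
    { app := fun V => ↾fun h => F.map h.down.op x
      naturality := fun V W g => by
        ext h
        exact FunctorToTypes.map_comp_apply F h.down.op g x }
  left_inv φ := by
    ext V h
    have e : (yo.obj U).map h.down.op ⟨𝟙 U⟩ = h := ULift.ext _ _ (Category.comp_id h.down)
    exact ((ConcreteCategory.congr_hom (φ.naturality h.down.op) ⟨𝟙 U⟩).symm.trans
      (congrArg (φ.app V) e) :)
  right_inv x := FunctorToTypes.map_id_apply F x

/-- Maps out of free presheaves of modules on an object are sections. -/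
noncomputable def presheafEquiv (U : C) (P : PresheafOfModules.{u + 1} R.obj) :
    ((PresheafOfModules.free R.obj).obj (yo.obj U) ⟶ P) ≃
      (P.presheaf.obj (op U) : Type (u + 1)) :=
  (PresheafOfModules.freeHomEquiv (F := yo.obj U) (G := P)).trans
    (yoEquiv U (P.presheaf ⋙ CategoryTheory.forget Ab))

/-- Maps out of free modules are sections. -/
noncomputable def secEquiv (U : C) (M : SheafOfModules.{u + 1} R) :
    ((freeY R).obj U ⟶ M) ≃ M.val.obj (op U) :=
  (PresheafOfModules.sheafificationHomEquiv (𝟙 R.obj)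
      (P := (PresheafOfModules.free R.obj).obj (yo.obj U)) (F := M)).trans
    (presheafEquiv R U ((PresheafOfModules.restrictScalars (𝟙 R.obj)).obj M.val))

theorem presheafEquiv_left {U V : C} (f : V ⟶ U) {P : PresheafOfModules.{u + 1} R.obj}
    (φ : (PresheafOfModules.free R.obj).obj (yo.obj U) ⟶ P) :
    presheafEquiv R V P ((PresheafOfModules.free R.obj).map (yo.map f) ≫ φ) =
      P.presheaf.map f.op (presheafEquiv R U P φ) := by
  have h := (PresheafOfModules.freeAdjunction R.obj).homEquiv_naturality_left (yo.map f) φ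
  simp only [PresheafOfModules.freeAdjunction_homEquiv] at h
  refine (congrArg (yoEquiv V _) h).trans ?_
  have key : ∀ ψ : yo.obj U ⟶ P.presheaf ⋙ CategoryTheory.forget Ab,
      yoEquiv V _ (yo.map f ≫ ψ) = P.presheaf.map f.op (yoEquiv U _ ψ) := fun ψ => by
    refine Eq.trans ?_ ((ConcreteCategory.congr_hom (ψ.naturality f.op) ⟨𝟙 U⟩) :)
    exact congrArg (ψ.app (op V))
      (ULift.ext _ _ ((Category.id_comp f).trans (Category.comp_id f).symm))
  exact key _

theorem presheafEquiv_right {U : C} {P Q : PresheafOfModules.{u + 1} R.obj}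
    (φ : (PresheafOfModules.free R.obj).obj (yo.obj U) ⟶ P) (ψ : P ⟶ Q) :
    presheafEquiv R U Q (φ ≫ ψ) = ψ.app (op U) (presheafEquiv R U P φ) := rfl

theorem secEquiv_left {U V : C} (f : V ⟶ U) {M : SheafOfModules.{u + 1} R} (s : (freeY R).obj U ⟶ M) :
    secEquiv R V M ((freeY R).map f ≫ s) = M.val.map f.op (secEquiv R U M s) := by
  have h : PresheafOfModules.sheafificationHomEquiv (𝟙 R.obj) ((freeY R).map f ≫ s) =
      (PresheafOfModules.free R.obj).map (yo.map f) ≫
        PresheafOfModules.sheafificationHomEquiv (𝟙 R.obj) s :=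
    (PresheafOfModules.sheafificationAdjunction (𝟙 R.obj)).homEquiv_naturality_left
      ((PresheafOfModules.free R.obj).map (yo.map f)) s
  refine (congrArg (presheafEquiv R V _) h).trans ?_
  exact presheafEquiv_left R f _

theorem secEquiv_right {U : C} {M N : SheafOfModules.{u + 1} R} (s : (freeY R).obj U ⟶ M) (ψ : M ⟶ N) :
    secEquiv R U N (s ≫ ψ) = ψ.val.app (op U) (secEquiv R U M s) := by
  have h : PresheafOfModules.sheafificationHomEquiv (𝟙 R.obj) (s ≫ ψ) =
      PresheafOfModules.sheafificationHomEquiv (𝟙 R.obj) s ≫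
        (PresheafOfModules.restrictScalars (𝟙 R.obj)).map ψ.val :=
    (PresheafOfModules.sheafificationAdjunction (𝟙 R.obj)).homEquiv_naturality_right s ψ
  refine (congrArg (presheafEquiv R U _) h).trans ?_
  exact presheafEquiv_right R _ _

theorem secEquiv_add {U : C} {M : SheafOfModules.{u + 1} R} (s t : (freeY R).obj U ⟶ M) :
    secEquiv R U M (s + t) = secEquiv R U M s + secEquiv R U M t := by
  have h : ∀ {M N : SheafOfModules.{u + 1} R} (ψ : M ⟶ N) (V : Cᵒᵖ) (x y : M.val.obj V),
      ψ.val.app V (x + y) = ψ.val.app V x + ψ.val.app V y := fun ψ V x y => map_add _ x y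
  have e : ∀ {M : SheafOfModules.{u + 1} R} (w : (freeY R).obj U ⟶ M),
      secEquiv R U M w = w.val.app (op U) (secEquiv R U _ (𝟙 _)) := fun w => by
    rw [← secEquiv_right, Category.id_comp]
  rw [e (s + t), e s, e t]
  rfl

/-- The additive form. -/
noncomputable def secAddEquiv (U : C) (M : SheafOfModules.{u + 1} R) :
    ((freeY R).obj U ⟶ M) ≃+ M.val.obj (op U) :=
  AddEquiv.mk' (secEquiv R U M) (secEquiv_add R)

theorem secEquiv_zero (U : C) (M : SheafOfModules.{u + 1} R) : secEquiv R U M 0 = 0 :=
  map_zero (secAddEquiv R U M)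

theorem isGrothendieckAbelian : IsGrothendieckAbelian.{u + 1} (SheafOfModules.{u + 1} R) where
  hasSeparator := by
    refine ⟨⟨∐ fun U => (freeY R).obj U, ?_⟩⟩
    rw [isSeparator_sigma]
    intro M N f g h
    refine SheafOfModules.hom_ext (PresheafOfModules.hom_ext fun U => ?_)
    ext x
    have h1 := congrArg (secEquiv R U.unop N) (h _ ⟨U.unop⟩ ((secEquiv R U.unop M).symm x))
    rwa [secEquiv_right, secEquiv_right, Equiv.apply_symm_apply] at h1
  hasFilteredColimitsOfSize := ⟨fun K _ _ => inferInstance⟩
  ab5OfSize :=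
    { ofShape := fun K _ _ =>
        HasExactColimitsOfShape.domain_of_functor K (SheafOfModules.toSheaf.{u + 1} R) }

theorem enoughInjectives : EnoughInjectives (SheafOfModules.{u + 1} R) :=
  haveI := isGrothendieckAbelian R
  inferInstance

theorem isDetecting : IsDetecting J (freeY R) where
  eq_zero_of_local {U M} s S hS h := by
    apply (secEquiv R U M).injective
    rw [secEquiv_zero]
    have hM : Presieve.IsSheaf J (M.val.presheaf ⋙ CategoryTheory.forget AddCommGrpCat.{u + 1}) :=
      (isSheaf_iff_isSheaf_of_type _ _).mp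
        ((Presheaf.isSheaf_iff_isSheaf_forget _ M.val.presheaf (CategoryTheory.forget AddCommGrpCat.{u + 1})).mp
          M.isSheaf)
    refine (hM.isSeparated _ hS).ext fun Y f hf => ?_
    change M.val.map f.op (secEquiv R U M s) = M.val.map f.op 0
    rw [← secEquiv_left, h f hf, secEquiv_zero, map_zero]
  exists_liftSieve {U M N} p hp s := by
    haveI := hp
    haveI : Sheaf.IsLocallySurjective ((SheafOfModules.toSheaf R).map p) :=
      (Sheaf.isLocallySurjective_iff_epi' _ _).2 inferInstance
    refine ⟨_, Presheaf.imageSieve_mem J ((SheafOfModules.toSheaf R).map p).hom (U := op U)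
      (secEquiv R U N s), fun Y f hf => ?_⟩
    obtain ⟨x, hx⟩ := hf
    refine ⟨(secEquiv R Y M).symm x, (secEquiv R Y N).injective ?_⟩
    rw [secEquiv_right, Equiv.apply_symm_apply, secEquiv_left]
    exact hx
  separating {M N} ψ h := by
    refine SheafOfModules.hom_ext (PresheafOfModules.hom_ext fun U => ?_)
    ext x
    have h1 := congrArg (secEquiv R U.unop N) (h U.unop ((secEquiv R U.unop M).symm x))
    rw [secEquiv_right, Equiv.apply_symm_apply, secEquiv_zero] at h1
    exact h1

end Groth.Agent.H8.ModQ
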