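import Groth.Agent.H8.QCohVanish.Crit

/-!
# Kernels of maps of good sheaves surjective on sections over good objects are good
-/

set_option autoImplicit false
set_option backward.isDefEq.respectTransparency false

universe u

open CategoryTheory CategoryTheory.Limits Opposite

namespace Groth.Agent.H8.ModQ

open Lib.ProEt.Cochain QCohVanish
open Lib.ProEt.CechCrit (injective_app exists_push_eq eq_zero_of_push)

variable {C : Type (u + 1)} [Category.{u} C] {J : GrothendieckTopology C}
  [HasSheafify J AddCommGrpCat.{u + 1}] {𝒞 : Covers J}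

/-- A section as a cochain in degree zero. -/
noncomputable def const {P U : C} (c : P ⟶ U) {F : Cᵒᵖ ⥤ AddCommGrpCat.{u + 1}} (q : F.obj (op U)) :
    Coch c F 0 where
  app W t := F.map (t.1 0 ≫ c).op q
  naturality g t := by
    rw [← ConcreteCategory.comp_apply, ← Functor.map_comp, ← op_comp]
    exact congrArg (fun k => F.map (Quiver.Hom.op k) q) (Category.assoc _ _ _)

theorem δ_const {P U : C} (c : P ⟶ U) {F : Cᵒᵖ ⥤ AddCommGrpCat.{u + 1}} (q : F.obj (op U)) :
    ∀ W t, (δ (const c q)).app W t = 0 := fun W t => by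
  rw [δ_app, Fin.sum_univ_two]
  have h : (face (0 : Fin 2) t).1 0 ≫ c = (face (1 : Fin 2) t).1 0 ≫ c := t.2 _ _
  change (-1 : ℤ) ^ 0 • F.map ((face (0 : Fin 2) t).1 0 ≫ c).op q +
    (-1 : ℤ) ^ 1 • F.map ((face (1 : Fin 2) t).1 0 ≫ c).op q = 0
  rw [h]
  simp

/-- Cocycles in degree zero are sections. -/
theorem exists_const_eq {P U : C} (c : P ⟶ U) (hc : 𝒞.Cov c) (F : Sheaf J AddCommGrpCat.{u + 1})
    (z : Coch c F.obj 0) (hz : ∀ W t, (δ z).app W t = 0) : ∃ q, const c q = z := by
  let t₀ : Tup c 0 P := ⟨fun _ => 𝟙 P, fun _ _ => rfl⟩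
  have hzW : ∀ {W : C} (t : Tup c 0 W), z.app W t = F.obj.map (t.1 0).op (z.app P t₀) := fun {W} t => by
    rw [← z.naturality]
    exact congrArg (z.app W) (Subtype.ext (funext fun a =>
      (congrArg t.1 (Subsingleton.elim (α := Fin 1) a 0)).trans (Category.comp_id _).symm))
  have hsheaf : Presieve.IsSheaf J (F.obj ⋙ CategoryTheory.forget AddCommGrpCat.{u + 1}) :=
    (isSheaf_iff_isSheaf_of_type _ _).mp
      ((Presheaf.isSheaf_iff_isSheaf_forget _ F.obj (CategoryTheory.forget _)).mp F.property)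
  obtain ⟨q, hq, -⟩ := Presieve.isSheafFor_singleton.mp
    ((Presieve.isSheafFor_iff_generate _).mpr (hsheaf _ (𝒞.mem c hc))) (z.app P t₀) fun {W} a b hab => by
      change F.obj.map a.op (z.app P t₀) = F.obj.map b.op (z.app P t₀)
      let t : Tup c 1 W := ⟨![b, a], fun i k => by fin_cases i <;> fin_cases k <;> simp [hab]⟩
      have h := hz W t
      rw [δ_app, Fin.sum_univ_two, hzW (face (0 : Fin 2) t), hzW (face (1 : Fin 2) t)] at h
      simp only [Fin.val_zero, pow_zero, one_smul, Fin.val_one, pow_one, neg_smul, ← sub_eq_add_neg,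
        sub_eq_zero] at h
      exact h
  refine ⟨q, Coch.ext fun W t => ?_⟩
  rw [hzW]
  change F.obj.map (t.1 0 ≫ c).op q = _
  rw [op_comp, Functor.map_comp, ConcreteCategory.comp_apply]
  exact congrArg (F.obj.map (t.1 0).op) hq

variable {S : ShortComplex (Sheaf J AddCommGrpCat.{u + 1})}

/-- The kernel of a map of good sheaves surjective on sections over good objects is good. -/
theorem good_X₁ (hS : S.ShortExact) (hB : ∀ ⦃P U : C⦄ (c : P ⟶ U), 𝒞.Cov c → 𝒞.B U)
    (hsurj : ∀ ⦃U : C⦄, 𝒞.B U → Function.Surjective (S.g.hom.app (op U)))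
    (h₂ : Good 𝒞 S.X₂) (h₃ : Good 𝒞 S.X₃) : Good 𝒞 S.X₁ := by
  intro P U c hc n x hx
  obtain ⟨y, hy⟩ := h₂ c hc n (push S.f.hom x) fun W t => by
    rw [← push_δ]
    exact (congrArg (S.f.hom.app (op W)) (hx W t)).trans (map_zero _)
  have e0 : ∀ W (s : S.X₁.obj.obj (op W)), S.g.hom.app (op W) (S.f.hom.app (op W) s) = 0 := fun W s =>
    ConcreteCategory.congr_hom (NatTrans.congr_app (congrArg (fun φ => φ.hom) S.zero) (op W)) s
  have hgy : ∀ W t, (δ (push S.g.hom y)).app W t = 0 := fun W t => by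
    rw [← push_δ, hy]
    exact e0 W _
  suffices h : ∃ d : Coch c S.X₂.obj n, (∀ W t, (δ d).app W t = 0) ∧ push S.g.hom d = push S.g.hom y by
    obtain ⟨d, hd, hdy⟩ := h
    let y' : Coch c S.X₂.obj n :=
      { app := fun W t => y.app W t - d.app W t
        naturality := fun g t => by rw [y.naturality, d.naturality, map_sub] }
    obtain ⟨w, hw⟩ := exists_push_eq hS y' fun W t => by
      change S.g.hom.app (op W) (y.app W t - d.app W t) = 0
      rw [map_sub, sub_eq_zero]
      exact (congrArg (fun z => z.app W t) hdy).symm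
    refine ⟨w, Coch.ext fun W t => ?_⟩
    haveI := hS.mono_f
    refine injective_app S.f W ?_
    have h1 : push S.f.hom (δ w) = δ y' := by rw [push_δ, hw]
    refine (congrArg (fun z => z.app W t) h1).trans ?_
    have h2 : (δ y').app W t = (δ y).app W t - (δ d).app W t := by
      simp only [δ_app, y', smul_sub, Finset.sum_sub_distrib]
    refine h2.trans ?_
    rw [hd W t, sub_zero, hy]
    rfl
  cases n with
  | zero =>
    obtain ⟨q, hq⟩ := exists_const_eq c hc S.X₃ (push S.g.hom y) hgy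
    obtain ⟨q', rfl⟩ := hsurj (hB c hc) q
    refine ⟨const c q', δ_const c q', Eq.trans ?_ hq⟩
    exact Coch.ext fun W t => ConcreteCategory.congr_hom (S.g.hom.naturality (t.1 0 ≫ c).op) q'
  | succ m =>
    obtain ⟨z, hz⟩ := h₃ c hc m (push S.g.hom y) hgy
    obtain ⟨V, v, hV, hv⟩ := 𝒞.rep c hc m
    obtain ⟨a, ha⟩ := hsurj hV (z.app V v)
    refine ⟨δ (ofUniv hv a), fun W t => δ_δ _ W t, ?_⟩
    rw [push_δ, ← hz]
    refine congrArg δ (eq_of_univ hv ?_)
    change S.g.hom.app (op V) ((ofUniv hv a).app V v) = _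
    rw [ofUniv_univ, ha]

end Groth.Agent.H8.ModQ
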