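import Groth.Agent.H8.ModQ.GoodKer
import Groth.Agent.Lib.EtMod.ProdRes.Rlim

/-!
# Limits of sequences of quasi-coherent modules with epimorphic transition maps are good
-/

set_option autoImplicit false
set_option linter.style.haveILetI false
set_option backward.isDefEq.respectTransparency false

universe u

open CategoryTheory CategoryTheory.Limits AlgebraicGeometry Opposite AlgSp

namespace Groth.Agent.H8.ModQ

open Lib.ProEt.Cochain QCohVanish Lib.EtMod Lib.EtMod.ProdRes

variable {S : Scheme.{u}} {X : Sp S}

/-- Products of good modules are good. -/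
theorem good_pi {T : Type} (M : T → ModEt X) (hM : ∀ t, Good (covers X) ((toAbEt X).obj (M t))) :
    Good (covers X) ((toAbEt X).obj (∏ᶜ M)) := by
  intro P U c hc n x hx
  choose y hy using fun t => hM t c hc n (push ((toAbEt X).map (Pi.π M t)).hom x) fun W s => by
    rw [← push_δ]
    change (Pi.π M t).val.app (op W) ((δ x).app W s) = 0
    rw [hx W s]
    exact map_zero ((Pi.π M t).val.app (op W)).hom
  obtain ⟨V, v, -, hv⟩ := (covers X).rep c hc n
  obtain ⟨a, ha⟩ := prod_exists (productIsProduct M) fun t => (y t).app V v
  refine ⟨ofUniv (F := ((toAbEt X).obj (∏ᶜ M)).obj) hv a, Coch.ext fun W s => ?_⟩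
  refine prod_hom_ext (productIsProduct M) fun t => ?_
  have e : push ((toAbEt X).map (Pi.π M t)).hom
      (ofUniv (F := ((toAbEt X).obj (∏ᶜ M)).obj) hv a) = y t := eq_of_univ hv (by
    refine Eq.trans ?_ (ha t)
    exact congrArg ((Pi.π M t).val.app (op V)) (ofUniv_univ (F := ((toAbEt X).obj (∏ᶜ M)).obj) hv a))
  have h := hy t
  rw [← e, ← push_δ] at h
  exact congrArg (fun z => z.app W s) h

variable (M : ℕ → ModEt X) (t : ∀ n, M (n + 1) ⟶ M n)
  (hcart : ∀ n, IsCart (M n)) (ht : ∀ n, Epi (t n))

include hcart ht in
/-- The difference of the identity and the shift is surjective on sections over affine objects. -/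
theorem surjective_seqDiff (E : EtOver X) (hE : IsAffine E.obj.left.left) :
    Function.Surjective ((seqDiff M t).val.app (op E)) := fun y => by
  choose g hg using fun n => surjective_app M t hcart ht n E hE
  let x : ∀ n, (M n).val.obj (op E) := fun n =>
    Nat.rec (motive := fun n => (M n).val.obj (op E)) 0
      (fun k xk => g k (xk - (Pi.π M k).val.app (op E) y)) n
  obtain ⟨w, hw⟩ := prod_exists (productIsProduct M) x
  refine ⟨w, prod_hom_ext (productIsProduct M) fun n => ?_⟩
  have h := congrArg (fun ψ : (∏ᶜ M) ⟶ M n => ψ.val.app (op E) w)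
    (Pi.lift_π (fun n => Pi.π M n - Pi.π M (n + 1) ≫ t n) n)
  refine h.trans ?_
  change (Pi.π M n).val.app (op E) w - (t n).val.app (op E) ((Pi.π M (n + 1)).val.app (op E) w) = _
  rw [hw n, hw (n + 1), hg n]
  exact sub_sub_cancel _ _

include hcart ht in
/-- The limit of a sequence of quasi-coherent modules with epimorphic transition maps is good. -/
theorem good_limit : Good (covers X) ((toAbEt X).obj (limit (Functor.ofOpSequence t))) :=
  good_X₁ (shortExact_toAbEt (shortExact_seq M t hcart ht)) (fun _ _ _ h => h.2.1)
    (fun E hE => surjective_seqDiff M t hcart ht E hE)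
    (good_pi M fun n => good_of_isCart (M n) (hcart n))
    (good_pi M fun n => good_of_isCart (M n) (hcart n))

end Groth.Agent.H8.ModQ
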