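import Groth.Agent.H8.ModQ.LimCoh
import Groth.Agent.H8.ModQ.EtDetect
import Groth.Agent.Lib.EtMod.ProdRes.Rlim

/-!
# Sections of the cohomology sheaves of derived limits
-/

set_option autoImplicit false
set_option linter.style.haveILetI false
set_option backward.isDefEq.respectTransparency false
set_option backward.isDefEq.respectTransparency.types false

universe u

open CategoryTheory CategoryTheory.Limits AlgebraicGeometry Opposite AlgSp DerivedCategory

attribute [local instance] HasDerivedCategory.standard

namespace Groth.Agent.H8.ModQ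

open Groth.Agent.Lib.RlimTrunc Tower Single Devissage Main Milnor

variable {S : Scheme.{u}} {X : Sp S}

theorem exists_affine_cover (U : EtOver X) :
    ∃ (ι : Type (u + 1)) (Y : ι → EtOver X) (f : ∀ i, Y i ⟶ U),
      Sieve.ofArrows Y f ∈ etTop X U ∧ ∀ i, Y i ∈ {V : EtOver X | IsAffine V.obj.left.left} := by
  choose W j hW hj using fun v : U.obj.left.left => Lib.EtMod.exists_affine_open_obj v
  exact ⟨ULift.{u + 1} U.obj.left.left, fun v => W v.down, fun v => j v.down,
    ofArrows_mem_etTop _ _ fun v => ⟨⟨v⟩, hj v⟩, fun v => hW v.down⟩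

theorem exists_primitive (M : ℕ → ModEt X) (t : ∀ n, M (n + 1) ⟶ M n)
    (hM : ∀ n, Lib.EtMod.IsCart (M n)) (ht : ∀ n, Epi (t n)) {U : EtOver X}
    (hU : IsAffine U.obj.left.left) (y : ∀ n, (freeEt X).obj U ⟶ M n) :
    ∃ x : ∀ n, (freeEt X).obj U ⟶ M n, ∀ n, x n - x (n + 1) ≫ t n = y n := by
  have key : ∀ n, ∀ z : (freeEt X).obj U ⟶ M n, ∃ w : (freeEt X).obj U ⟶ M (n + 1), w ≫ t n = z :=
    fun n z => by
      obtain ⟨b, hb⟩ := Lib.EtMod.ProdRes.surjective_app M t hM ht n U hU (secEquiv (OEtRing X) U _ z)
      refine ⟨(secEquiv (OEtRing X) U _).symm b, (secEquiv (OEtRing X) U _).injective ?_⟩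
      rw [secEquiv_right, Equiv.apply_symm_apply]
      exact hb
  choose w hw using key
  refine ⟨fun n => Nat.rec (motive := fun n => (freeEt X).obj U ⟶ M n) 0
    (fun k xk => w k (xk - y k)) n, fun n => ?_⟩
  change _ - w n _ ≫ t n = _
  rw [hw, sub_sub_cancel]

variable (K : ℕ → DModEt X) (t : ∀ n, K (n + 1) ⟶ K n)
  (hK : ∀ n, DCoh.IsQCohDMod (OEtRing X) (K n))
  (ht : ∀ (q : ℤ) (n : ℕ), Epi ((homologyFunctor (ModEt X) q).map (t n)))
  [HasProduct K] {L : DModEt X} (a : ∀ n, L ⟶ K n) (hL : CohCx.IsRlimVia K t L a)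

include hK in
theorem bijective_θ_qcoh {U : EtOver X} (hU : IsAffine U.obj.left.left) (n : ℕ) (q : ℤ) :
    Function.Bijective (θ (g := (freeEt X).obj U) (m := q) (L := K n)) :=
  LimCoh.bijective_θ isDetectingEt {V : EtOver X | IsAffine V.obj.left.left} exists_affine_cover (K n)
    (fun _ hV q k hk => extVanish_freeEt hV _
      (haveI := hK n q; Lib.EtMod.isCart_of_isQuasicoherent _) k hk) U hU q

include hK ht in
theorem limSurj_qcoh {U : EtOver X} (hU : IsAffine U.obj.left.left) (q : ℤ) :
    LimSurj (W ((freeEt X).obj U) q) K t :=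
  Groth.Agent.Lib.RlimTrunc.LimCoh.limSurj_of_θ (fun n => bijective_θ_qcoh K hK hU n q) fun y =>
    exists_primitive _ _ (fun n => haveI := hK n q; Lib.EtMod.isCart_of_isQuasicoherent _)
      (fun n => ht q n) hU y

include hK ht hL in
/-- Cohomology sheaves of the derived limit map isomorphically to the limit. -/
theorem exists_iso (q : ℤ) :
    ∃ φ : (homologyFunctor (ModEt X) q).obj L ≅
        limit (Functor.ofOpSequence (X := fun n => (homologyFunctor (ModEt X) q).obj (K n))
          fun n => (homologyFunctor (ModEt X) q).map (t n)),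
      ∀ n, φ.hom ≫ limit.π _ (op n) = (homologyFunctor (ModEt X) q).map (a n) := by
  let F := Functor.ofOpSequence (X := fun n => (homologyFunctor (ModEt X) q).obj (K n))
    fun n => (homologyFunctor (ModEt X) q).map (t n)
  let c : Cone F :=
    { pt := (homologyFunctor (ModEt X) q).obj L
      π := NatTrans.ofOpSequence (fun n => (homologyFunctor (ModEt X) q).map (a n)) fun n => by
        change 𝟙 _ ≫ _ = (homologyFunctor (ModEt X) q).map (a (n + 1)) ≫ F.map _
        rw [Functor.ofOpSequence_map_homOfLE_succ, Category.id_comp, ← Functor.map_comp,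
          Tower.comp_transition hL n] }
  haveI := LimCoh.isIso_comparison (hd := isDetectingEt (X := X))
    (B := {V : EtOver X | IsAffine V.obj.left.left}) (hB := exists_affine_cover) (hL := hL)
    (fun U hU n q => bijective_θ_qcoh K hK hU n q) (fun U hU q => limSurj_qcoh K t hK ht hU q) q
    (fun n => limit.π F (op n))
    (fun n => by
      have h := limit.w F (homOfLE (Nat.le_add_right n 1)).op
      rwa [Functor.ofOpSequence_map_homOfLE_succ] at h)
    (fun x y h => limit.hom_ext fun ⟨n⟩ => h n) (limit.lift F c) (fun n => limit.lift_π c (op n))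
  exact ⟨asIso (limit.lift F c), fun n => limit.lift_π c (op n)⟩

include hK ht hL in
/-- Sections of the cohomology sheaves of the derived limit are the compatible families. -/
theorem sections_rlim (q : ℤ) (V : EtOver X) :
    (∀ s s' : sectModEt ((homologyFunctor (ModEt X) q).obj L) V,
        (∀ n, ((homologyFunctor (ModEt X) q).map (a n)).val.app (op V) s =
          ((homologyFunctor (ModEt X) q).map (a n)).val.app (op V) s') → s = s') ∧
      ∀ x : ∀ n, sectModEt ((homologyFunctor (ModEt X) q).obj (K n)) V,
        (∀ n, ((homologyFunctor (ModEt X) q).map (t n)).val.app (op V) (x (n + 1)) = x n) →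
        ∃ s : sectModEt ((homologyFunctor (ModEt X) q).obj L) V,
          ∀ n, ((homologyFunctor (ModEt X) q).map (a n)).val.app (op V) s = x n := by
  obtain ⟨φ, hφ⟩ := exists_iso K t hK ht a hL q
  refine ⟨fun s s' h => ?_, fun x hx => ?_⟩
  · apply (secEquiv (OEtRing X) V _).symm.injective
    rw [← cancel_mono φ.hom]
    refine limit.hom_ext fun ⟨n⟩ => (secEquiv (OEtRing X) V _).injective ?_
    rw [Category.assoc, Category.assoc, hφ, secEquiv_right, secEquiv_right, Equiv.apply_symm_apply,
      Equiv.apply_symm_apply]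
    exact h n
  · let F := Functor.ofOpSequence (X := fun n => (homologyFunctor (ModEt X) q).obj (K n))
      fun n => (homologyFunctor (ModEt X) q).map (t n)
    let g : ∀ n, (freeEt X).obj V ⟶ (homologyFunctor (ModEt X) q).obj (K n) :=
      fun n => (secEquiv (OEtRing X) V _).symm (x n)
    let c : Cone F :=
      { pt := (freeEt X).obj V
        π := NatTrans.ofOpSequence g fun n => (secEquiv (OEtRing X) V _).injective (by
          change secEquiv (OEtRing X) V _ (𝟙 _ ≫ g n) = secEquiv (OEtRing X) V _ (g (n + 1) ≫ F.map _)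
          rw [Functor.ofOpSequence_map_homOfLE_succ, Category.id_comp, secEquiv_right,
            Equiv.apply_symm_apply, Equiv.apply_symm_apply]
          exact (hx n).symm) }
    refine ⟨secEquiv (OEtRing X) V _ (limit.lift F c ≫ φ.inv), fun n => ?_⟩
    rw [← secEquiv_right, Category.assoc, ← hφ n, Iso.inv_hom_id_assoc, limit.lift_π]
    exact Equiv.apply_symm_apply _ _

end Groth.Agent.H8.ModQ
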