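import Groth.Agent.H8.QCohVanish.Covers
import Groth.Prelude.Def_AlgSpD
import Mathlib.CategoryTheory.Sites.Over

/-!
# Affine covers on the slices of the small etale site
-/

universe u

set_option backward.isDefEq.respectTransparency false
set_option backward.isDefEq.respectTransparency.types false
set_option linter.style.haveILetI false

open CategoryTheory CategoryTheory.Limits AlgebraicGeometry Opposite AlgSp

namespace Groth.Agent.H8.ModQ

open Lib.ProEt.Cochain QCohVanish
open Lib.EtMod (exists_affCover)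

variable {S : Scheme.{u}} {X : Sp S} {E : EtOver X}

theorem mem_over_of_cover {Y : Over E} {ι : Type*} (V : ι → Over E) (g : ∀ i, V i ⟶ Y)
    (hcov : ∀ x : Y.left.obj.left.left, ∃ i, x ∈ Set.range (g i).left.hom.left.left) :
    Sieve.ofArrows V g ∈ (etTop X).over E Y := by
  rw [GrothendieckTopology.mem_over_iff, Sieve.overEquiv_ofArrows]
  exact ofArrows_mem_etTop _ _ hcov

theorem isSheafFor_slice (F : Sheaf ((etTop X).over E) AddCommGrpCat.{u + 1}) {Y : Over E} {ι : Type*}
    (V : ι → Over E) (g : ∀ i, V i ⟶ Y)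
    (hcov : ∀ x : Y.left.obj.left.left, ∃ i, x ∈ Set.range (g i).left.hom.left.left) :
    (Presieve.ofArrows V g).IsSheafFor (F.obj ⋙ CategoryTheory.forget AddCommGrpCat.{u + 1}) := by
  rw [Presieve.isSheafFor_iff_generate]
  exact (isSheaf_iff_isSheaf_of_type _ _).mp
    ((Presheaf.isSheaf_iff_isSheaf_forget _ F.obj (CategoryTheory.forget AddCommGrpCat.{u + 1})).mp
      F.property) _ (mem_over_of_cover V g hcov)

theorem slice_eq_of_cover (F : Sheaf ((etTop X).over E) AddCommGrpCat.{u + 1}) {Y : Over E} {ι : Type*}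
    (V : ι → Over E) (g : ∀ i, V i ⟶ Y)
    (hcov : ∀ x : Y.left.obj.left.left, ∃ i, x ∈ Set.range (g i).left.hom.left.left)
    {s t : F.obj.obj (op Y)} (h : ∀ i, F.obj.map (g i).op s = F.obj.map (g i).op t) : s = t :=
  (isSheafFor_slice F V g hcov).isSeparatedFor.ext fun _ _ hk => by
    obtain ⟨i⟩ := hk
    exact h i

/-- Epimorphisms of abelian sheaves on a slice lift sections after an affine covering. -/
theorem exists_lift_slice {U : Over E} [IsAffine U.left.obj.left.left]
    {F G : Sheaf ((etTop X).over E) AddCommGrpCat.{u + 1}} (φ : F ⟶ G) [Epi φ]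
    (q : G.obj.obj (op U)) :
    ∃ (P : Over E) (c : P ⟶ U), IsAffine P.left.obj.left.left ∧
      Function.Surjective c.left.hom.left.left ∧ ∃ j, φ.hom.app (op P) j = G.obj.map c.op q := by
  haveI hls : Sheaf.IsLocallySurjective φ := (Sheaf.isLocallySurjective_iff_epi' _ φ).mpr inferInstance
  obtain ⟨C, hC⟩ := exists_affCover ((GrothendieckTopology.mem_over_iff _ _).1
    (Presheaf.imageSieve_mem ((etTop X).over E) φ.hom q))
  let V : Fin C.n → Over E := fun k => Over.mk (C.g k ≫ U.hom)
  let g : ∀ k, V k ⟶ U := fun k => Over.homMk (C.g k)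
  have hC' : ∀ k, (Presheaf.imageSieve φ.hom q) (g k) := fun k => (Sieve.overEquiv_iff _ _).1 (hC k)
  choose j hj using hC'
  let T := ∐ fun k => (C.V k).obj.left.left
  let f : T ⟶ U.left.obj.left.left := Sigma.desc fun k => (C.g k).hom.left.left
  haveI : Etale f := IsZariskiLocalAtSource.sigmaDesc (P := @Etale) fun k => EtOver.etale_left (C.g k)
  obtain ⟨P₀, c₀, ψ, e₀, hψ, hec, hel⟩ := exists_obj_over U.left f C.V C.g
    (Sigma.ι fun k => (C.V k).obj.left.left) (fun k => Sigma.ι_desc _ _)
  let P : Over E := Over.mk (c₀ ≫ U.hom)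
  let c : P ⟶ U := Over.homMk c₀
  let e : ∀ k, V k ⟶ P := fun k => Over.homMk (e₀ k) (by
    change e₀ k ≫ c₀ ≫ U.hom = C.g k ≫ U.hom
    rw [← Category.assoc, hec])
  have hec' : ∀ k, e k ≫ c = g k := fun k => Over.OverMorphism.ext (hec k)
  have hcov : ∀ x : P.left.obj.left.left, ∃ k, x ∈ Set.range (e k).left.hom.left.left := by
    intro x
    obtain ⟨k, y, hy⟩ := (sigmaOpenCover fun k => (C.V k).obj.left.left).exists_eq (ψ.inv x)
    refine ⟨k, y, ?_⟩
    change (e₀ k).hom.left.left y = x
    rw [hel, Scheme.Hom.comp_apply]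
    refine (congrArg ψ.hom hy).trans ?_
    rw [← Scheme.Hom.comp_apply, Iso.inv_hom_id]
    rfl
  obtain ⟨t, ht, -⟩ := (Presieve.isSheafFor_arrows_iff _ e).1 (isSheafFor_slice F V e hcov) j (by
    intro a b W p r hpr
    change F.obj.map p.op (j a) = F.obj.map r.op (j b)
    by_cases hab : a = b
    · subst hab
      have hh := congrArg (fun m => m.left.hom.left.left) hpr
      haveI : Mono (e₀ a).hom.left.left := by rw [hel]; infer_instance
      have h1 : p.left.hom.left.left = r.left.hom.left.left :=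
        (cancel_mono (e₀ a).hom.left.left).mp hh
      rw [show p = r from Over.OverMorphism.ext (EtOver.hom_ext _ _ (Over.OverMorphism.ext h1))]
    · refine slice_eq_of_cover F (ι := PEmpty.{1}) (fun i => i.elim) (fun i => i.elim) (fun w => ?_)
        fun i => i.elim
      exfalso
      have hh : (p.left.hom.left.left ≫ (e₀ a).hom.left.left) w =
          (r.left.hom.left.left ≫ (e₀ b).hom.left.left) w :=
        congrArg (fun m => m.left.hom.left.left w) hpr
      rw [hel, hel, ← Category.assoc, ← Category.assoc, Scheme.Hom.comp_apply _ ψ.hom,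
        Scheme.Hom.comp_apply _ ψ.hom] at hh
      have h2 := ψ.hom.homeomorph.injective hh
      refine (disjoint_opensRange_sigmaι (fun k => (C.V k).obj.left.left) a b hab).le_bot
        (x := Sigma.ι (fun k => (C.V k).obj.left.left) a (p.left.hom.left.left w)) ⟨⟨_, rfl⟩, ?_⟩
      exact ⟨r.left.hom.left.left w, h2.symm⟩)
  refine ⟨P, c, IsAffine.of_isIso ψ.inv, fun x => ?_, t, ?_⟩
  · obtain ⟨k, y, hy⟩ := C.cov x
    exact ⟨(e₀ k).hom.left.left y, ((congrArg (fun m => m.hom.left.left y) (hec k)).trans hy)⟩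
  · refine slice_eq_of_cover G V e hcov fun k => ?_
    rw [← ConcreteCategory.comp_apply, ← φ.hom.naturality (e k).op, ConcreteCategory.comp_apply]
    refine (congrArg _ (ht k)).trans ((hj k).trans ?_)
    rw [← ConcreteCategory.comp_apply, ← Functor.map_comp, ← op_comp, hec']

/-- The image of a tuple under forgetting the slice. -/
def tupDown {P U : Over E} {c : P ⟶ U} {n : ℕ} {W : Over E} (t : Tup c n W) :
    Tup c.left n W.left :=
  ⟨fun a => (t.1 a).left, fun a b => congrArg (fun h => CommaMorphism.left h) (t.2 a b)⟩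

theorem tupDown_hom {P U : Over E} {c : P ⟶ U} {n : ℕ} {V : EtOver X} (t : Tup c.left n V)
    (a : Fin (n + 1)) : t.1 a ≫ P.hom = t.1 0 ≫ P.hom :=
  ((congrArg (t.1 a ≫ ·) (Over.w c)).symm.trans ((Category.assoc _ _ _).symm.trans
    (congrArg (· ≫ U.hom) (t.2 a 0)))).trans ((Category.assoc _ _ _).trans (congrArg (t.1 0 ≫ ·) (Over.w c)))

/-- A tuple in the slice from one below. -/
def tupUp {P U : Over E} {c : P ⟶ U} {n : ℕ} {V : EtOver X} (t : Tup c.left n V) :
    Tup c n (Over.mk (t.1 0 ≫ P.hom)) :=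
  ⟨fun a => Over.homMk (t.1 a) (tupDown_hom t a), fun a b => Over.OverMorphism.ext (t.2 a b)⟩

theorem isUniv_tupUp {P U : Over E} {c : P ⟶ U} {n : ℕ} {V : EtOver X} {v : Tup c.left n V}
    (hv : IsUniv v) : IsUniv (tupUp v) := fun W t => by
  obtain ⟨g, hg, hgu⟩ := hv (tupDown t)
  have h0 : g ≫ v.1 0 = (t.1 0).left := congrArg (fun s : Tup c.left n W.left => s.1 0) hg
  refine ⟨Over.homMk g ?_, ?_, fun g' hg' => ?_⟩
  · change g ≫ v.1 0 ≫ P.hom = W.hom
    rw [← Category.assoc, h0]
    exact Over.w (t.1 0)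
  · exact Subtype.ext (funext fun a => Over.OverMorphism.ext
      (congrArg (fun s : Tup c.left n W.left => s.1 a) hg))
  · exact Over.OverMorphism.ext (hgu g'.left (Subtype.ext (funext fun a =>
      congrArg (fun s : Tup c n W => (s.1 a).left) hg')))

variable (E) in
/-- Surjective morphisms of affine objects of a slice. -/
noncomputable def sliceCovers : Covers ((etTop X).over E) where
  B U := IsAffine U.left.obj.left.left
  Cov P U c := (covers X).Cov c.left
  mem P U c h := by
    rw [← Presieve.ofArrows_pUnit]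
    exact mem_over_of_cover (fun _ : PUnit.{1} => P) (fun _ => c) fun x => ⟨⟨⟩, h.2.2 x⟩
  rep P U c h n := by
    obtain ⟨V, v, hV, hv⟩ := (covers X).rep c.left h n
    exact ⟨_, tupUp v, hV, isUniv_tupUp hv⟩
  lift U hU F G φ hφ q := by
    haveI := hU
    haveI := hφ
    obtain ⟨P, c, hP, hc, h⟩ := exists_lift_slice φ q
    exact ⟨P, c, ⟨hP, hU, hc⟩, h⟩

end Groth.Agent.H8.ModQ
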