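import Groth.Agent.H8.ModQ.SliceCov
import Groth.Agent.H8.ModQ.ExtGood

/-!
# Cohomology of good modules over affine objects of the small etale site, on the slice
-/

universe u

set_option backward.isDefEq.respectTransparency false
set_option backward.isDefEq.respectTransparency.types false
set_option linter.style.haveILetI false

open CategoryTheory CategoryTheory.Limits AlgebraicGeometry Opposite AlgSp Abelian

attribute [local instance] HasDerivedCategory.standard

namespace Groth.Agent.H8.ModQ

open Lib.ProEt.Cochain QCohVanish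

variable {S : Scheme.{u}} {X : Sp S} {E : EtOver X}

/-- A cochain on a slice, read below. -/
noncomputable def cochDown {L : ModEt X} {P U : Over E} {c : P ⟶ U} {n : ℕ}
    (x : Coch c ((SheafOfModules.toSheaf (OEtOn E)).obj ((resModEt E).obj L)).obj n) :
    Coch c.left ((toAbEt X).obj L).obj n where
  app V t := x.app (Over.mk (t.1 0 ≫ P.hom)) (tupUp t)
  naturality {W W'} g t := by
    let g' : Over.mk ((Lib.ProEt.Cochain.res g t).1 0 ≫ P.hom) ⟶ Over.mk (t.1 0 ≫ P.hom) :=
      Over.homMk g (Category.assoc _ _ _).symm
    exact (congrArg (x.app _) (Subtype.ext (funext fun _ => Over.OverMorphism.ext rfl) :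
      tupUp (Lib.ProEt.Cochain.res g t) = Lib.ProEt.Cochain.res g' (tupUp t))).trans
      (x.naturality g' (tupUp t))

theorem cochDown_app {L : ModEt X} {P U : Over E} {c : P ⟶ U} {n : ℕ}
    (x : Coch c ((SheafOfModules.toSheaf (OEtOn E)).obj ((resModEt E).obj L)).obj n) {W : Over E}
    (s : Tup c n W) : (cochDown x).app W.left (tupDown s) = x.app W s := by
  let g : W ⟶ Over.mk ((tupDown s).1 0 ≫ P.hom) :=
    Over.homMk (𝟙 W.left) ((Category.id_comp _).trans (Over.w (s.1 0)))
  have h : Lib.ProEt.Cochain.res g (tupUp (tupDown s)) = s :=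
    Subtype.ext (funext fun _ => Over.OverMorphism.ext (Category.id_comp _))
  have h2 := x.naturality g (tupUp (tupDown s))
  rw [h] at h2
  refine Eq.trans ?_ h2.symm
  exact (ConcreteCategory.congr_hom (((toAbEt X).obj L).obj.map_id (op W.left)) _).symm

/-- Restrictions of good modules to slices are good. -/
theorem good_res {L : ModEt X} (hL : Good (covers X) ((toAbEt X).obj L)) :
    Good (sliceCovers E) ((SheafOfModules.toSheaf (OEtOn E)).obj ((resModEt E).obj L)) := by
  intro P U c hc n x hx
  obtain ⟨y, hy⟩ := hL c.left hc n (cochDown x) fun V t => by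
    refine Eq.trans ?_ (hx _ (tupUp t))
    rw [δ_app, δ_app]
    exact Finset.sum_congr rfl fun i _ => congrArg _ (cochDown_app x (face i (tupUp t)))
  refine ⟨⟨fun W s => y.app W.left (tupDown s), fun g s => y.naturality g.left (tupDown s)⟩,
    Coch.ext fun W s => ?_⟩
  refine Eq.trans ?_ (cochDown_app x s)
  exact congrArg (fun z => z.app W.left (tupDown s)) hy

/-- The terminal object of a slice. -/
noncomputable abbrev top' (E : EtOver X) : Over E := Over.mk (𝟙 E)

/-- The structural morphism to the terminal object. -/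
noncomputable abbrev toTop (V : Over E) : V ⟶ top' E := Over.homMk V.hom

/-- The free module on the terminal object of a slice is the structure sheaf. -/
noncomputable def freeTopIso (E : EtOver X) :
    (freeY (OEtOn E)).obj (top' E) ≅ SheafOfModules.unit (OEtOn E) where
  hom := (secEquiv (OEtOn E) (top' E) _).symm (1 : (OEtOn E).obj.obj (op (top' E)))
  inv := (((freeY (OEtOn E)).obj (top' E)).unitHomEquiv).symm
    (PresheafOfModules.sectionsMk (fun V => ((freeY (OEtOn E)).obj (top' E)).val.map
        (toTop V.unop).op (secEquiv (OEtOn E) (top' E) _ (𝟙 _))) fun V W g => by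
      rw [← PresheafOfModules.map_comp_apply]
      exact congrArg (fun k => ((freeY (OEtOn E)).obj (top' E)).val.map k _)
        (congrArg Quiver.Hom.op (Over.OverMorphism.ext (Over.w g.unop))))
  hom_inv_id := by
    refine (secEquiv (OEtOn E) (top' E) _).injective ?_
    rw [secEquiv_right, Equiv.apply_symm_apply]
    refine (congrArg (fun s : ((freeY (OEtOn E)).obj (top' E)).sections => s.val (op (top' E)))
      (Equiv.apply_symm_apply ((freeY (OEtOn E)).obj (top' E)).unitHomEquiv _)).trans ?_
    refine (congrArg (fun k => ((freeY (OEtOn E)).obj (top' E)).val.map k _)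
      (show (toTop (top' E)).op = 𝟙 _ from congrArg Quiver.Hom.op (Over.OverMorphism.ext rfl))).trans ?_
    exact ConcreteCategory.congr_hom (((freeY (OEtOn E)).obj (top' E)).val.presheaf.map_id _) _
  inv_hom_id := by
    refine (SheafOfModules.unit (OEtOn E)).unitHomEquiv.injective (Subtype.ext (funext fun V => ?_))
    rw [SheafOfModules.unitHomEquiv_comp_apply, Equiv.apply_symm_apply]
    let a := (secEquiv (OEtOn E) (top' E) (SheafOfModules.unit (OEtOn E))).symm
      (1 : (OEtOn E).obj.obj (op (top' E)))
    change a.val.app V (((freeY (OEtOn E)).obj (top' E)).val.map (toTop V.unop).op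
      (secEquiv (OEtOn E) (top' E) _ (𝟙 _))) = (1 : (OEtOn E).obj.obj V)
    rw [PresheafOfModules.naturality_apply]
    rw [← secEquiv_right, Category.id_comp, Equiv.apply_symm_apply]
    exact map_one ((OEtOn E).obj.map (toTop V.unop).op).hom

/-- Cohomology over an affine object into a good module vanishes in positive degrees. -/
theorem subsingleton_HEtDOn {L : ModEt X} (hL : Good (covers X) ((toAbEt X).obj L))
    (hE : IsAffine E.obj.left.left) (p : ℤ) (hp : 0 < p) :
    Subsingleton (HEtDOn E (DCoh.inDMod (OEtRing X) L) p) := by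
  obtain ⟨k, rfl⟩ : ∃ k : ℕ, p = ((k + 1 : ℕ) : ℤ) := ⟨(p - 1).toNat, by omega⟩
  haveI : HasExt.{u + 2} (ModEtOn E) := HasExt.standard _
  haveI := subsingleton_ext (sliceCovers E) k ((resModEt E).obj L) (good_res hL) (U := top' E) hE
  have h1 : Subsingleton ((DerivedCategory.singleFunctor (ModEtOn E) 0).obj ((freeY (OEtOn E)).obj (top' E)) ⟶
      ((DerivedCategory.singleFunctor (ModEtOn E) 0).obj ((resModEt E).obj L))⟦((k + 1 : ℕ) : ℤ)⟧) :=
    Ext.homEquiv.symm.subsingleton
  exact @Equiv.subsingleton _ _ (Iso.homCongr ((DerivedCategory.singleFunctor (ModEtOn E) 0).mapIso (freeTopIso E).symm)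
    ((shiftFunctor _ ((k + 1 : ℕ) : ℤ)).mapIso
      (((resModEt E).mapDerivedCategorySingleFunctor 0).app L))) h1

end Groth.Agent.H8.ModQ
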